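import Cfsg.Agent.TwM.Inst

set_option autoImplicit false

/-! Rank one subgroups of type `SL₂` of twisted groups. -/

namespace Cfsg.Agent.Stein.SL2Sys

variable {k F G : Type*} [Field k] [Field F] [Group G]

/-- restriction of scalars -/
def tw (L : SL2Sys F G) (ψ : k →+* F) : SL2Sys k G where
  x t := L.x (ψ t)
  y t := L.y (ψ t)
  x_add t u := by rw [map_add, L.x_add]
  y_add t u := by rw [map_add, L.y_add]
  conj t u ht := by simpa using L.conj (ψ t) (ψ u) (by simpa)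

theorem tw_w (L : SL2Sys F G) (ψ : k →+* F) (t : k) : (L.tw ψ).w t = L.w (ψ t) := by simp [w, tw]

theorem tw_h (L : SL2Sys F G) (ψ : k →+* F) (t : k) : (L.tw ψ).h t = L.h (ψ t) := by simp [h, tw_w]

/-- commuting systems -/
def Comm (L L' : SL2Sys k G) : Prop :=
  ∀ t u, Commute (L.x t) (L'.x u) ∧ Commute (L.x t) (L'.y u) ∧ Commute (L.y t) (L'.x u) ∧ Commute (L.y t) (L'.y u)

variable {L L' : SL2Sys k G}

theorem Comm.xw (h : L.Comm L') (t u : k) : Commute (L.x t) (L'.w u) :=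
  ((h t u).1.mul_right (h t _).2.1).mul_right (h t u).1

theorem Comm.yw (h : L.Comm L') (t u : k) : Commute (L.y t) (L'.w u) :=
  ((h t u).2.2.1.mul_right (h t _).2.2.2).mul_right (h t u).2.2.1

theorem Comm.ww (h : L.Comm L') (t u : k) : Commute (L.w t) (L'.w u) :=
  ((h.xw t u).mul_left (h.yw _ u)).mul_left (h.xw t u)

theorem Comm.symm (h : L.Comm L') : L'.Comm L := fun t u =>
  ⟨(h u t).1.symm, (h u t).2.2.1.symm, (h u t).2.1.symm, (h u t).2.2.2.symm⟩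

theorem Comm.w_eq (h : L.Comm L') (t : k) :
    L.x t * L'.x t * (L.y (-t⁻¹) * L'.y (-t⁻¹)) * (L.x t * L'.x t) = L.w t * L'.w t := by
  rw [(h _ _).2.2.1.symm.mul_mul_mul_comm, ((h t t).1.mul_right (h t _).2.1).symm.mul_mul_mul_comm]; rfl

/-- diagonal product -/
def prod (h : L.Comm L') : SL2Sys k G where
  x t := L.x t * L'.x t
  y t := L.y t * L'.y t
  x_add t u := by rw [L.x_add, L'.x_add, (h _ _).1.mul_mul_mul_comm]
  y_add t u := by rw [L.y_add, L'.y_add, (h _ _).2.2.2.mul_mul_mul_comm]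
  conj t u ht := by
    have h1 := h.symm.yw (-(t⁻¹ ^ 2 * u)) t
    rw [h.w_eq, (h.xw u t).symm.mul_mul_mul_comm, mul_inv_rev, ← mul_assoc, mul_assoc _ (_ * _), L'.w_x ht, mul_assoc,
      h1.inv_right.eq, ← mul_assoc, L.w_x ht]

theorem prod_w (h : L.Comm L') (t : k) : (prod h).w t = L.w t * L'.w t := h.w_eq t

theorem prod_h (h : L.Comm L') (t : k) : (prod h).h t = L.h t * L'.h t := by
  simp only [SL2Sys.h, prod_w]; rw [(h.ww _ _).mul_mul_mul_comm]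

end Cfsg.Agent.Stein.SL2Sys

namespace Cfsg.Agent.TwM

open Subgroup Cfsg.Agent.Cover Cfsg.Lie Cfsg.Lie.ChevalleyDatum Cfsg.Agent.Chev Cfsg.Agent.Tw Equiv Cfsg.Agent.Stein
open scoped commutatorElement

universe u

variable {E : Type u} [Group E] {D : ChevalleyDatum} {C : Cert D} {F : Type*} [Field F] {G : Type*} [Group G]
  {S : Sys C F G} {T : Stb S} {θ : E →* G} {K : Subgroup G} {p : ℕ}

theorem Stem.quot (h : Stem K θ) (M : Subgroup E) [M.Normal] (hM : M ≤ θ.ker) : Stem K (QuotientGroup.lift M θ hM) := by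
  have e : (QuotientGroup.lift M θ hM).ker = θ.ker.map (QuotientGroup.mk' M) := QuotientGroup.ker_lift _ _ _
  refine ⟨fun x => ?_, fun g hg => ?_, ?_, ?_⟩
  · obtain ⟨x, rfl⟩ := QuotientGroup.mk_surjective x; exact h.mem x
  · obtain ⟨x, rfl⟩ := h.surj g hg; exact ⟨x, rfl⟩
  · rw [e]
    rintro _ ⟨x, hx, rfl⟩
    refine mem_center_iff.2 fun y => ?_
    obtain ⟨y, rfl⟩ := QuotientGroup.mk'_surjective M y
    rw [← map_mul, mem_center_iff.1 (h.cen hx), map_mul]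
  · rw [e]; exact (map_mono h.stem).trans (by rw [map_commutator_eq]; exact commutator_mono le_top le_top)

theorem Stem.tf_div [Finite E] (h : Stem K θ)
    (hp : ∀ (E' : Type u) [Group E'] [Finite E'] (θ' : E' →* G), Stem K θ' → IsPGroup p θ'.ker → θ'.ker = ⊥) :
    (∀ c ∈ θ.ker, c ^ p = 1 → c = 1) ∧ ∀ c ∈ θ.ker, ∃ d ∈ θ.ker, d ^ p = c := by
  have c : ∀ a ∈ θ.ker, ∀ b, (a * b) ^ p = a ^ p * b ^ p := fun a ha b =>
    (show Commute a b from (mem_center_iff.1 (h.cen ha) b).symm).mul_pow p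
  let M : Subgroup E :=
    { carrier := {c | ∃ d ∈ θ.ker, d ^ p = c}
      one_mem' := ⟨1, one_mem _, one_pow _⟩
      mul_mem' := by rintro _ _ ⟨a, ha, rfl⟩ ⟨b, hb, rfl⟩; exact ⟨_, mul_mem ha hb, c a ha b⟩
      inv_mem' := by rintro _ ⟨a, ha, rfl⟩; exact ⟨_, inv_mem ha, inv_pow _ _⟩ }
  have hM : M ≤ θ.ker := by rintro _ ⟨a, ha, rfl⟩; exact pow_mem ha p
  haveI := normal_of_le_center (hM.trans h.cen)
  have h1 := hp _ _ (h.quot M hM) fun ⟨x, hx⟩ => ⟨1, Subtype.ext (by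
    obtain ⟨x, rfl⟩ := QuotientGroup.mk_surjective x
    exact (QuotientGroup.eq_one_iff (x ^ p ^ 1)).2 ⟨x, hx, by rw [pow_one]⟩)⟩
  have h2 : ∀ c ∈ θ.ker, ∃ d ∈ θ.ker, d ^ p = c := fun c hc =>
    (QuotientGroup.eq_one_iff (N := M) c).1 (mem_bot.1 (h1.le hc))
  refine ⟨fun c hc e => congrArg Subtype.val ((Finite.injective_iff_surjective (f := fun x : θ.ker => x ^ p)).2
    (fun x => ?_) (a₁ := ⟨c, hc⟩) (a₂ := 1) (Subtype.ext (by simpa using e))), h2⟩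
  obtain ⟨d, hd, e⟩ := h2 x x.2
  exact ⟨⟨d, hd⟩, Subtype.ext e⟩

theorem gen_le_sup {W : Set (List (ℕ × F))} (h : ∀ w ∈ W, wd S w ∈ S.Up ∨ wd S w ∈ S.Um) :
    gen S W ≤ (S.Up ⊓ gen S W) ⊔ (S.Um ⊓ gen S W) := (gen_le S).2 fun w hw =>
  (h w hw).elim (fun h => mem_sup_left ⟨h, wd_mem_gen S hw⟩) fun h => mem_sup_right ⟨h, wd_mem_gen S hw⟩

variable (S) in
/-- the system of a root -/
def sysR (r : Rt D) : SL2Sys F G where
  x := S.x r
  y := S.x r.rev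
  x_add := S.x_add r
  y_add := S.x_add _
  conj t u ht := by
    have := S.n_conj r (Units.mk0 t ht) r u
    simpa [Sys.n, C.refl_self, C.etaU_val, C.eta_self, C.A_self, zpow_ofNat] using this

theorem sysR_w (r : Rt D) (t : Fˣ) : (sysR S r).w t = S.n r t := by simp [SL2Sys.w, sysR, Sys.n]

theorem sysR_h (r : Rt D) (t : Fˣ) : (sysR S r).h t = S.h r t := by
  rw [SL2Sys.h, sysR_w, Sys.h, ← sysR_w r (-1)]; rfl

theorem commute_U {A B : Set (Rt D)} (h : ∀ a ∈ A, ∀ b ∈ B, b ≠ a.rev ∧ C.N a b = 0) {u v : G} (hu : u ∈ S.U A)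
    (hv : v ∈ S.U B) : Commute u v :=
  S.U_induction (P := fun u => Commute u v) (Commute.one_left v) (fun a ha t _ _ ih => Commute.mul_left
    (S.U_induction (P := fun v => Commute (S.x a t) v) (Commute.one_right _)
      (fun b hb s _ _ ih => Commute.mul_right (S.commute_of_N (h a ha b hb).1 (h a ha b hb).2 t s) ih) hv) ih) hu

theorem eq_one_of_cd_sp {i : Nd D} (hs : ∀ r ∈ Rp T i, ∃ j, r = C.sp j) {u : G} (hu : u ∈ S.U (Rp T i)) (e : T.σ u = u)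
    (h : S.cd (C.sp i) u = 0) : u = 1 := by
  have h1 : T.Stable {j | S.cd (C.sp j) u = 0} := fun j => by
    have := T.cd_sp (S.U_le_Up (fun _ h => h.1) hu) j
    rw [e] at this
    simp [this]
  rw [← mem_bot, ← S.U_empty]
  refine peel (f := Cert.lev ∅) zero_le_one (closed_Rp i) (nil_Rp i) (fun r hr => Sys.ht_pos hr.1) hu fun r hr => Or.inr ?_
  obtain ⟨j, rfl⟩ := hs r hr
  exact ⟨by rw [Sys.ht_sp]; omega, (h1.orb_iff (C.inJ_sp.1 hr.2)).2 h⟩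

theorem over_sw {i : Nd D} {a v b : G} (ha : a ∈ S.U (Rp T i)) (hv : v ∈ S.U (Rm T i)) (hb : b ∈ S.U (Rp T i)) (h1 : v ≠ 1)
    (hN : a * v * b ∈ S.N) (e : T.σ (a * v * b) = a * v * b) : S.Over (a * v * b) (sw T i) := by
  obtain ⟨w, hw⟩ := Sys.exists_over_of_mem_N hN
  obtain ⟨w', h2, u, hu, m, hm, u', hu', e'⟩ := S.mem_L_iff.1
    (mul_mem (mul_mem (U_pos_le_L _ ha) (U_neg_le_L (S := S) _ hv)) (U_pos_le_L _ hb))
  obtain rfl : w = w' := hw.cell.unique ⟨u, S.U_le_Up (fun _ h => h.1) hu, m, hm, u', S.Uw_le_Up _ hu', e'⟩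
  rwa [Stb.eq_w0_orb h2 (Stb.cj_eq_of_cell e hw.cell)] at hw
  rintro rfl
  refine h1 (S.eq_one_of_mem_Um_B (S.U_le_Um (fun _ h => h.1) hv) ?_)
  simpa [mul_assoc] using mul_mem (mul_mem (inv_mem (S.Up_le_B (S.U_le_Up (fun _ h => h.1) ha))) (S.H_le_B hw.mem_H))
    (inv_mem (S.Up_le_B (S.U_le_Up (fun _ h => h.1) hb)))

theorem sp_Rp (i : Nd D) : C.sp i ∈ Rp T i := ⟨C.pos_sp i, C.inJ_sp.2 (T.mem_orb i)⟩

theorem sp_Rm (i : Nd D) : (C.sp i).rev ∈ Rm T i := ⟨C.not_pos_rev (C.pos_sp i), C.inJ_rev.2 (C.inJ_sp.2 (T.mem_orb i))⟩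

theorem σ_Rp {i : Nd D} {u : G} (h : u ∈ S.U (Rp T i)) : T.σ u ∈ S.U (Rp T i) :=
  T.σ_U (fun r hr => by exact ⟨(T.pos r).2 hr.1, ((T.stable_orb i).inJ r).2 hr.2⟩) h

theorem σ_Rm {i : Nd D} {u : G} (h : u ∈ S.U (Rm T i)) : T.σ u ∈ S.U (Rm T i) :=
  T.σ_U (fun r hr => by exact ⟨(T.pos r).not.2 hr.1, ((T.stable_orb i).inJ r).2 hr.2⟩) h

theorem cd_sp_mul (i : Nd D) {u v : G} (hu : u ∈ S.Up) (hv : v ∈ S.Up) :
    S.cd (C.sp i) (u * v) = S.cd (C.sp i) u + S.cd (C.sp i) v :=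
  S.cd_mul (f := Cert.lev ∅) zero_le_one (fun r hr => Sys.ht_pos hr) (by rw [Sys.ht_sp]; omega) hu hv

theorem σ_sp (he : ∀ i, T.e (C.sp i) = 1) (i : Nd D) (t : F) : T.σ (S.x (C.sp i) t) = S.x (C.sp (T.π i)) (T.f (C.sp i) t) ∧
    T.σ (S.x (C.sp i).rev t) = S.x (C.sp (T.π i)).rev (T.f (C.sp i) t) := by
  simp [T.σ_x, T.rev, T.sp, T.e_rev, T.f_rev, he]

variable (C) in
/-- orthogonal nodes -/
def Orth (i j : Nd D) : Prop := ∀ a ∈ [C.sp i, (C.sp i).rev], ∀ b ∈ [C.sp j, (C.sp j).rev], b ≠ a.rev ∧ C.N a b = 0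

instance instDecidableOrth (i j : Nd D) : Decidable (Orth C i j) := by unfold Orth; infer_instance

theorem Orth.comm {i j : Nd D} (h : Orth C i j) (t u : F) : Commute (S.x (C.sp i) t) (S.x (C.sp j) u) ∧
    Commute (S.x (C.sp i) t) (S.x (C.sp j).rev u) ∧ Commute (S.x (C.sp i).rev t) (S.x (C.sp j) u) ∧
    Commute (S.x (C.sp i).rev t) (S.x (C.sp j).rev u) := by
  simp only [Orth, List.forall_mem_cons] at h
  exact ⟨S.commute_of_N h.1.1.1 h.1.1.2 t u, S.commute_of_N h.1.2.1.1 h.1.2.1.2 t u,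
    S.commute_of_N h.2.1.1.1 h.2.1.1.2 t u, S.commute_of_N h.2.1.2.1.1 h.2.1.2.1.2 t u⟩

theorem Orth.ne {i j : Nd D} (h : Orth C i j) : C.sp j ≠ C.sp i := by
  simpa using (h (C.sp i).rev (by simp) (C.sp j) (by simp)).1

theorem comm2 (he : ∀ i, T.e (C.sp i) = 1) {i : Nd D} (h : Orth C i (T.π i)) :
    (sysR S (C.sp i)).Comm ((sysR S (C.sp i)).map T.σ.toMonoidHom) := fun t u => by
  simpa only [sysR, SL2Sys.map, MulEquiv.coe_toMonoidHom, σ_sp he] using h.comm t _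

theorem comm3 (he : ∀ i, T.e (C.sp i) = 1) {i : Nd D} (h : Orth C i (T.π i)) (h' : Orth C i (T.π (T.π i))) :
    (sysR S (C.sp i)).Comm ((SL2Sys.prod (comm2 he h)).map T.σ.toMonoidHom) := fun t u => by
  simp only [sysR, SL2Sys.map, SL2Sys.prod, MulEquiv.coe_toMonoidHom, σ_sp he, map_mul]
  exact ⟨(h.comm _ _).1.mul_right (h'.comm _ _).1, (h.comm _ _).2.1.mul_right (h'.comm _ _).2.1,
    (h.comm _ _).2.2.1.mul_right (h'.comm _ _).2.2.1, (h.comm _ _).2.2.2.mul_right (h'.comm _ _).2.2.2⟩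

variable [Finite F] [Fact p.Prime] [CharP F p]

theorem Cop.exists_tor (h : Cop T θ p K) {k : Type*} [Field k] [Finite k] {i : Nd D} (L : SL2Sys k G) (ψ : k →+* F)
    (hx : ∀ t, L.x t ∈ S.U (Rp T i) ∧ T.σ (L.x t) = L.x t) (hy : ∀ t, L.y t ∈ S.U (Rm T i) ∧ T.σ (L.y t) = L.y t)
    (hN : ∀ t, t ≠ 0 → L.w t ∈ S.N) (hs : ∀ r ∈ Rp T i, ∃ j, r = C.sp j) (hc : ∀ t, S.cd (C.sp i) (L.x t) = ψ t)
    (hψ : ∀ u ∈ S.U (Rp T i), T.σ u = u → S.cd (C.sp i) u ∈ ψ.range) :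
    ∃ χ : kˣ →* E, (∀ t, θ (χ t) = L.h t) ∧ Hi T θ p i ≤ χ.range := by
  have x1 := fun t => h.up _ (S.U_le_Up (fun _ h => h.1) (hx t).1) (hx t).2
  have y1 := fun t => h.toGood.um _ (S.U_le_Um (fun _ h => h.1) (hy t).1) (hy t).2
  have w1 : ∀ t, L.w t ∈ K := fun t => mul_mem (mul_mem (x1 t) (y1 _)) (x1 t)
  have hw : ∀ t, t ≠ 0 → S.Over (L.w t) (sw T i) := fun t ht => over_sw (hx t).1 (hy _).1 (hx t).1 (fun e => by
    have h1 := L.w_y ht (-t⁻¹)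
    have h2 := hc (-(t ^ 2 * -t⁻¹))
    rw [← h1, e, mul_one, mul_inv_cancel, S.cd_one] at h2
    simp [ht] at h2) (hN t ht) (h.fix _ (w1 t))
  obtain ⟨L', h1, h2⟩ := h.exists_sl2 L x1 (fun t => (hx t).1) y1 (fun t => (hy t).1) (fun v hv hv' => by
    have h3 := (hw 1 one_ne_zero).inv.acts.conj_mem (T' := Rp T i) (fun r hr => by rw [C.w0_inv]; exact sw_Rm hr) hv'
    have h4 := mul_mem (mul_mem (inv_mem (w1 1)) hv) (inv_mem (inv_mem (w1 1)))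
    obtain ⟨t, ht⟩ := hψ _ h3 (h.fix _ h4)
    have h5 := eq_one_of_cd_sp hs (mul_mem (hx (-t)).1 h3) (h.fix _ (mul_mem (x1 _) h4)) (by
      rw [S.cd_mul (f := Cert.lev ∅) zero_le_one (fun r hr => Sys.ht_pos hr.1) (by rw [Sys.ht_sp]; omega) (hx _).1 h3, hc,
        ← ht, map_neg, neg_add_cancel])
    rw [L.x_neg, inv_mul_eq_one] at h5
    exact ⟨_, by rw [← L.w_x one_ne_zero t, h5]; group⟩) hw
  exact ⟨L'.hH, fun t => by rw [← h1, SL2Sys.map_h]; rfl, h2⟩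

theorem Cop.tor_one (h : Cop T θ p K) {i : Nd D} (h1 : T.π i = i) (h2 : T.e (C.sp i) = 1) : ∀ a ∈ Hi T θ p i,
    ∃ c : Fˣ, T.f (C.sp i) c = c ∧ θ a = S.h (C.sp i) c ∧ (c = 1 → a = 1) := by
  have h3 : T.ρ (C.sp i) = C.sp i := by rw [T.sp, h1]
  have h4 : T.orb i = {i} := Set.ext fun j => ⟨fun h => (h.eq_of_left h1).symm, by rintro rfl; exact T.mem_orb _⟩
  have hs : ∀ r ∈ Rp T i, r = C.sp i := fun r hr => Cert.eq_sp_of_inJ_singleton hr.1 (h4 ▸ hr.2)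
  let k := (T.f (C.sp i) : F →+* F).eqLocusField (RingHom.id F)
  obtain ⟨χ, h5, h6⟩ := h.exists_tor ((sysR S (C.sp i)).tw k.subtype) k.subtype
    (fun t => ⟨S.x_mem_U (sp_Rp i) _, by
      change T.σ (S.x _ _) = S.x _ _; rw [T.σ_x, h3, h2, Units.val_one, one_mul]; exact congrArg _ t.2⟩)
    (fun t => ⟨S.x_mem_U (sp_Rm i) _, by
      change T.σ (S.x _ _) = S.x _ _
      rw [T.σ_x, T.rev, h3, T.e_rev, T.f_rev, h2, inv_one, Units.val_one, one_mul]; exact congrArg _ t.2⟩)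
    (fun t ht => by
      rw [SL2Sys.tw_w, ← Units.val_mk0 (show k.subtype t ≠ 0 by simpa), sysR_w]; exact S.n_mem _ _)
    (fun r hr => ⟨i, hs r hr⟩) (fun t => S.cd_x_self _ _) fun u hu e => ⟨⟨_, by
      have := T.cd_sp (S.U_le_Up (fun _ h => h.1) hu) i
      rw [e, h1, h2, Units.val_one, one_mul] at this
      exact this.symm⟩, rfl⟩
  intro a ha
  obtain ⟨t, rfl⟩ := h6 ha
  refine ⟨Units.map (k.subtype : k →* F) t, t.1.2, by rw [h5, SL2Sys.tw_h, ← sysR_h]; rfl, fun e => ?_⟩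
  rw [show t = 1 from Units.ext (Subtype.ext (congrArg Units.val e)), map_one]

theorem Cop.tor_two (h : Cop T θ p K) (he : ∀ i, T.e (C.sp i) = 1) {i : Nd D} (h1 : Orth C i (T.π i)) (h2 : T.π (T.π i) = i)
    (h3 : ∀ t, T.f (C.sp (T.π i)) (T.f (C.sp i) t) = t) (hs : ∀ r ∈ Rp T i, ∃ j, r = C.sp j) :
    ∃ χ : Fˣ →* E, (∀ t, θ (χ t) = S.h (C.sp i) t * T.σ (S.h (C.sp i) t)) ∧ Hi T θ p i ≤ χ.range := by
  obtain ⟨χ, h5, h6⟩ := h.exists_tor (SL2Sys.prod (comm2 he h1)) (RingHom.id F)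
    (fun t => ⟨mul_mem (S.x_mem_U (sp_Rp i) t) (σ_Rp (S.x_mem_U (sp_Rp i) t)), by
      simp only [sysR, SL2Sys.map, SL2Sys.prod, MulEquiv.coe_toMonoidHom, σ_sp he, map_mul, h2, h3, (h1.comm _ _).1.eq]⟩)
    (fun t => ⟨mul_mem (S.x_mem_U (sp_Rm i) t) (σ_Rm (S.x_mem_U (sp_Rm i) t)), by
      simp only [sysR, SL2Sys.map, SL2Sys.prod, MulEquiv.coe_toMonoidHom, σ_sp he, map_mul, h2, h3, (h1.comm _ _).2.2.2.eq]⟩)
    (fun t ht => by
      rw [SL2Sys.prod_w, SL2Sys.map_w, ← Units.val_mk0 ht, sysR_w]; exact mul_mem (S.n_mem _ _) (T.σ_N (S.n_mem _ _)))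
    hs (fun t => by
      simp only [sysR, SL2Sys.map, SL2Sys.prod, MulEquiv.coe_toMonoidHom, σ_sp he]
      rw [cd_sp_mul i (S.x_mem_Up (C.pos_sp _) _) (S.x_mem_Up (C.pos_sp _) _), S.cd_x_self, S.cd_x_ne h1.ne, add_zero]; rfl)
    fun u _ _ => ⟨_, rfl⟩
  exact ⟨χ, fun t => by rw [h5, SL2Sys.prod_h, SL2Sys.map_h, sysR_h]; rfl, h6⟩

theorem Cop.tor_three (h : Cop T θ p K) (he : ∀ i, T.e (C.sp i) = 1) {i : Nd D} (h1 : Orth C i (T.π i))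
    (h1' : Orth C i (T.π (T.π i))) (h2 : T.π (T.π (T.π i)) = i)
    (h3 : ∀ t, T.f (C.sp (T.π (T.π i))) (T.f (C.sp (T.π i)) (T.f (C.sp i) t)) = t) (hs : ∀ r ∈ Rp T i, ∃ j, r = C.sp j) :
    ∃ χ : Fˣ →* E, (∀ t, θ (χ t) = S.h (C.sp i) t * T.σ (S.h (C.sp i) t * T.σ (S.h (C.sp i) t))) ∧ Hi T θ p i ≤ χ.range := by
  obtain ⟨χ, h5, h6⟩ := h.exists_tor (SL2Sys.prod (comm3 he h1 h1')) (RingHom.id F)
    (fun t => ⟨mul_mem (S.x_mem_U (sp_Rp i) t) (σ_Rp (mul_mem (S.x_mem_U (sp_Rp i) t) (σ_Rp (S.x_mem_U (sp_Rp i) t)))), by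
      simp only [sysR, SL2Sys.map, SL2Sys.prod, MulEquiv.coe_toMonoidHom, σ_sp he, map_mul, h2, h3]
      rw [← mul_assoc, ((h1.comm _ _).1.mul_right (h1'.comm _ _).1).eq]⟩)
    (fun t => ⟨mul_mem (S.x_mem_U (sp_Rm i) t) (σ_Rm (mul_mem (S.x_mem_U (sp_Rm i) t) (σ_Rm (S.x_mem_U (sp_Rm i) t)))), by
      simp only [sysR, SL2Sys.map, SL2Sys.prod, MulEquiv.coe_toMonoidHom, σ_sp he, map_mul, h2, h3]
      rw [← mul_assoc, ((h1.comm _ _).2.2.2.mul_right (h1'.comm _ _).2.2.2).eq]⟩)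
    (fun t ht => by
      rw [SL2Sys.prod_w, SL2Sys.map_w, SL2Sys.prod_w, SL2Sys.map_w, ← Units.val_mk0 ht, sysR_w]
      exact mul_mem (S.n_mem _ _) (T.σ_N (mul_mem (S.n_mem _ _) (T.σ_N (S.n_mem _ _)))))
    hs (fun t => by
      simp only [sysR, SL2Sys.map, SL2Sys.prod, MulEquiv.coe_toMonoidHom, σ_sp he, map_mul]
      have a := fun j t => S.x_mem_Up (C.pos_sp j) t
      rw [cd_sp_mul i (a _ _) (mul_mem (a _ _) (a _ _)), cd_sp_mul i (a _ _) (a _ _), S.cd_x_self, S.cd_x_ne h1.ne,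
        S.cd_x_ne h1'.ne, add_zero, add_zero]; rfl)
    fun u _ _ => ⟨_, rfl⟩
  exact ⟨χ, fun t => by rw [h5, SL2Sys.prod_h, SL2Sys.map_h, SL2Sys.prod_h, SL2Sys.map_h, sysR_h]; rfl, h6⟩

end Cfsg.Agent.TwM
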