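import Cfsg.Agent.TwM.Filt
import Cfsg.Agent.Tw.Invol
import Cfsg.Agent.RG.Rank1

set_option autoImplicit false

/-! Central extensions of twisted groups with kernel prime to the characteristic. -/

namespace Cfsg.Agent.TwM

open Subgroup Cfsg.Agent.Cover Cfsg.Lie Cfsg.Lie.ChevalleyDatum Cfsg.Agent.Chev Cfsg.Agent.Tw Equiv Cfsg.Agent.Stein
open scoped commutatorElement

variable {E : Type*} [Group E] {D : ChevalleyDatum} {C : Cert D} {F : Type*} [Field F] {G : Type*} [Group G]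
  {S : Sys C F G} (T : Stb S) (θ : E →* G) (p : ℕ)

/-- lifted positive root group -/
abbrev Xp (i : Nd D) : Subgroup E := pLift θ p (S.U (Rp T i))
/-- lifted negative root group -/
abbrev Xm (i : Nd D) : Subgroup E := pLift θ p (S.U (Rm T i))
/-- relative reflection -/
noncomputable abbrev sw (i : Nd D) : Perm (Rt D) := C.w0 (T.orb i)

/-- the elements `m(v)` -/
def IsM (i : Nd D) (m : E) : Prop :=
  S.Over (θ m) (sw T i) ∧ ∃ x ∈ Xp T θ p i, ∃ v ∈ Xm T θ p i, ∃ x' ∈ Xp T θ p i, m = x * v * x'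

/-- rank one torus -/
def Hi (i : Nd D) : Subgroup E := closure {g | ∃ m m', IsM T θ p i m ∧ IsM T θ p i m' ∧ g = m * m'}
/-- the torus -/
def H0 : Subgroup E := ⨆ i, Hi T θ p i

/-- products of elements `m(v)` -/
inductive NW : List (Nd D) → E → Prop
  | nil : NW [] 1
  | cons {i l m n} : IsM T θ p i m → NW l n → NW (i :: l) (m * n)

/-- value of a word -/
noncomputable def wT (l : List (Nd D)) : Perm (Rt D) := (l.map (sw T)).prod

variable {T θ p}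

theorem wT_W (l : List (Nd D)) : wT T l ∈ C.W := Subgroup.list_prod_mem _ fun _ h => by
  obtain ⟨i, -, rfl⟩ := List.mem_map.1 h; exact C.w0_mem_W _

theorem cj_sw (i : Nd D) : T.cj (sw T i) = sw T i := (T.stable_orb i).cj_w0

theorem closed_Rp (i : Nd D) : C.Closed (Rp T i) := Cert.closed_pos.inter (Cert.closed_inJ _)
theorem closed_Rm (i : Nd D) : C.Closed (Rm T i) := Cert.closed_neg.inter (Cert.closed_inJ _)
theorem nil_Rp (i : Nd D) : C.Nil (Rp T i) := Cert.nil_of_pos fun _ h => h.1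
theorem nil_Rm (i : Nd D) : C.Nil (Rm T i) := Cert.nil_of_neg fun _ h => h.1

theorem sw_Rp {i : Nd D} {r : Rt D} (h : r ∈ Rp T i) : sw T i r ∈ Rm T i :=
  ⟨fun e => (Cert.pos_w0_iff h.2).1 e h.1, (Cert.inJ_map (C.w0_mem _) r).2 h.2⟩

theorem sw_Rm {i : Nd D} {r : Rt D} (h : r ∈ Rm T i) : sw T i r ∈ Rp T i :=
  ⟨(Cert.pos_w0_iff h.2).2 h.1, (Cert.inJ_map (C.w0_mem _) r).2 h.2⟩

theorem Uw_sw (i : Nd D) : S.Uw (sw T i) = S.U (Rp T i) := by
  unfold Sys.Uw; congr 1; ext r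
  exact ⟨fun h => ⟨h.1, by_contra fun e => h.2 (Cert.pos_map_of_not_inJ (C.w0_mem _) h.1 e)⟩, fun h => ⟨h.1, (sw_Rp h).1⟩⟩

theorem conj_X {n e : E} {w : Perm (Rt D)} (hn : S.Over (θ n) w) {A B : Set (Rt D)} (h : ∀ r ∈ A, w r ∈ B)
    (he : e ∈ pLift θ p (S.U A)) : n * e * n⁻¹ ∈ pLift θ p (S.U B) :=
  conj_mem_pLift n (fun _ hg => hn.acts.conj_mem h hg) he

theorem IsM.inv {i : Nd D} {m : E} (h : IsM T θ p i m) : IsM T θ p i m⁻¹ := by
  obtain ⟨h, x, hx, v, hv, x', hx', rfl⟩ := h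
  exact ⟨by rw [map_inv, sw, ← C.w0_inv]; exact h.inv, _, inv_mem hx', _, inv_mem hv, _, inv_mem hx, by group⟩

theorem conj_sw {w : Perm (Rt D)} (hw : w ∈ C.W) (h : T.cj w = w) {i j : Nd D} (h1 : ∀ r ∈ Rp T i, w r ∈ Rp T j) :
    w * sw T i * w⁻¹ = sw T j := by
  refine Stb.eq_w0_orb (C.WJ_induction_right (P := fun v => w * v * w⁻¹ ∈ C.WJ (T.orb j)) (by simp)
    (fun v _ k hk ih => ?_) (C.w0_mem _)) (by rw [T.cj_mul, T.cj_mul, T.cj_inv, h, cj_sw]) (by simpa using Stb.w0_orb_ne_one i)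
  have := mul_mem ih (Cert.sr_mem_WJ (h1 _ ⟨C.pos_sp k, C.inJ_sp.2 hk⟩).2)
  rw [← Cert.Aut.conj_sr (C.W_le_Aut hw)] at this
  simpa [mul_assoc, Cert.ss] using this

theorem IsM.conj {i j : Nd D} {m n : E} (h : IsM T θ p i m) {w : Perm (Rt D)} (hn : S.Over (θ n) w) (e : T.cj w = w)
    (h1 : ∀ r ∈ Rp T i, w r ∈ Rp T j) : IsM T θ p j (n * m * n⁻¹) := by
  obtain ⟨h, x, hx, v, hv, x', hx', rfl⟩ := h
  refine ⟨by rw [← conj_sw hn.mem_W e h1, map_mul, map_mul, map_inv]; exact (hn.mul h).mul hn.inv, _, conj_X hn h1 hx, _,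
    conj_X hn (fun r hr => ?_) hv, _, conj_X hn h1 hx', by group⟩
  have := h1 r.rev ⟨(C.pos_rev_iff r).2 hr.1, C.inJ_rev.2 hr.2⟩
  rw [Cert.Aut.map_rev hn.mem_Aut] at this
  exact ⟨(C.pos_rev_iff _).1 this.1, C.inJ_rev.1 this.2⟩

theorem IsM.conj_H {i : Nd D} {m a : E} (h : IsM T θ p i m) (ha : θ a ∈ S.H) : IsM T θ p i (a * m * a⁻¹) :=
  h.conj (Sys.over_of_mem_H ha) T.cj_one fun _ h => h

theorem IsM.mul_mem {i : Nd D} {m m' : E} (h : IsM T θ p i m) (h' : IsM T θ p i m') : m * m' ∈ Hi T θ p i :=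
  subset_closure ⟨m, m', h, h', rfl⟩

theorem IsM.mul_H {i : Nd D} {m m' : E} (h : IsM T θ p i m) (h' : IsM T θ p i m') : θ (m * m') ∈ S.H :=
  Sys.Over.mem_H (by rw [map_mul, ← C.w0_mul_self (T.orb i)]; exact h.1.mul h'.1)

theorem Hi_le_H0 (i : Nd D) : Hi T θ p i ≤ H0 T θ p := le_iSup (Hi T θ p) i

theorem Hi_le_H (i : Nd D) : Hi T θ p i ≤ S.H.comap θ := (closure_le _).2 (by
  rintro _ ⟨m, m', h, h', rfl⟩; exact h.mul_H h')

theorem H0_le_H : H0 T θ p ≤ S.H.comap θ := iSup_le Hi_le_H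

theorem H_norm_Hi (i : Nd D) : S.H.comap θ ≤ normalizer (Hi T θ p i : Set E) := le_norm fun a ha y hy => by
  have : Hi T θ p i ≤ (Hi T θ p i).comap (MulAut.conj a).toMonoidHom := (closure_le _).2 (by
    rintro _ ⟨m, m', h, h', rfl⟩
    simpa using (h.conj_H ha).mul_mem (h'.conj_H ha))
  exact this hy

theorem Hi_congr {i j : Nd D} (h : j ∈ T.orb i) : Hi T θ p j = Hi T θ p i := by
  simp only [Hi, IsM, Xp, Xm, sw, Rp, Rm, Stb.orb_eq h]

theorem mem_Hi_sup {i : Nd D} {B : Subgroup E} (hB : B ≤ H0 T θ p) {x : E} (hx : x ∈ Hi T θ p i ⊔ B) :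
    ∃ a ∈ Hi T θ p i, ∃ b ∈ B, x = a * b :=
  Sys.mem_mul_of_normalizes' (fun _ ha _ hb => nmem (H_norm_Hi i (H0_le_H (hB ha))) hb) (by rwa [sup_comm])

theorem IsM.conj_H0 {i : Nd D} {m a : E} (h : IsM T θ p i m) (ha : a ∈ H0 T θ p) : m * a * m⁻¹ ∈ H0 T θ p := by
  simpa [mul_assoc] using Subgroup.mul_mem _ (Hi_le_H0 i (h.mul_mem (h.inv.conj_H (H0_le_H ha)))) ha

theorem NW.over {l : List (Nd D)} {n : E} (h : NW T θ p l n) : S.Over (θ n) (wT T l) := by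
  induction h with
  | nil => rw [map_one]; exact S.over_one
  | cons hm _ ih => rw [map_mul]; exact hm.1.mul ih

theorem NW.append {l l' : List (Nd D)} {n n' : E} (h : NW T θ p l n) (h' : NW T θ p l' n') :
    NW T θ p (l ++ l') (n * n') := by
  induction h with
  | nil => simpa using h'
  | cons hm _ ih => rw [mul_assoc]; exact NW.cons hm ih

theorem NW.of_append {l l' : List (Nd D)} {n : E} (h : NW T θ p (l ++ l') n) :
    ∃ n1 n2, NW T θ p l n1 ∧ NW T θ p l' n2 ∧ n = n1 * n2 := by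
  induction l generalizing n with
  | nil => exact ⟨1, n, NW.nil, h, (one_mul _).symm⟩
  | cons i l ih =>
    cases h with
    | cons hm hn =>
      obtain ⟨n1, n2, h1, h2, rfl⟩ := ih hn
      exact ⟨_, n2, NW.cons hm h1, h2, (mul_assoc _ _ _).symm⟩

theorem NW.conj_H0 {l : List (Nd D)} {n a : E} (h : NW T θ p l n) (ha : a ∈ H0 T θ p) : n * a * n⁻¹ ∈ H0 T θ p := by
  induction h with
  | nil => simpa
  | cons hm _ ih => simpa [mul_assoc] using hm.conj_H0 ih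

theorem cj_wT (l : List (Nd D)) : T.cj (wT T l) = wT T l := by
  induction l with
  | nil => exact T.cj_one
  | cons i l ih => change T.cj (sw T i * wT T l) = sw T i * wT T l; rw [T.cj_mul, cj_sw, ih]

theorem split_word {i : Nd D} {l : List (Nd D)} {v : Perm (Rt D)} (hv : v ∈ C.W) (e : T.cj v = v)
    (h1 : C.Pos (v (C.sp i))) (h2 : ¬ C.Pos (((wT T l)⁻¹ * v) (C.sp i))) :
    ∃ l1 j l2, l = l1 ++ j :: l2 ∧ ∀ r ∈ Rp T i, ((wT T l1)⁻¹ * v) r ∈ Rp T j := by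
  induction l generalizing v with
  | nil => exact absurd h1 h2
  | cons j l ih =>
    have h3 : sw T j * v ∈ C.W := Subgroup.mul_mem _ (C.w0_mem_W _) hv
    have h4 : T.cj (sw T j * v) = sw T j * v := by rw [T.cj_mul, cj_sw, e]
    have h5 : ∀ l, (wT T (j :: l))⁻¹ * v = (wT T l)⁻¹ * (sw T j * v) := fun l => by
      change (sw T j * wT T l)⁻¹ * v = _; rw [mul_inv_rev, C.w0_inv, mul_assoc]
    by_cases h : C.Pos ((sw T j * v) (C.sp i))
    · obtain ⟨l1, k, l2, rfl, h6⟩ := ih h3 h4 h (h5 l ▸ h2)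
      exact ⟨j :: l1, k, l2, rfl, by rwa [h5]⟩
    · refine ⟨[], j, l, rfl, fun r hr => ?_⟩
      have h6 := (pos_of_asc hv e h1 hr.2).2 hr.1
      exact ⟨h6, by_contra fun h7 => (neg_of_desc h3 h4 h hr.2).1 (Cert.pos_map_of_not_inJ (C.w0_mem _) h6 h7) hr.1⟩

theorem NW.del {l : List (Nd D)} {n : E} (hn : NW T θ p l n) (h : θ n ∈ S.H) : n ∈ H0 T θ p := by
  induction hk : l.length using Nat.strong_induction_on generalizing l n with
  | _ k ih =>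
  have h0 := hn.over.unique (Sys.over_of_mem_H h)
  cases hn with
  | nil => exact one_mem _
  | @cons i l m n hm hn =>
    obtain ⟨l1, j, l2, rfl, e⟩ := split_word (T := T) (i := i) (l := l) (one_mem _) T.cj_one (C.pos_sp i) (by
      rw [mul_one, ← eq_inv_of_mul_eq_one_left (show sw T i * wT T l = 1 from h0)]; exact C.w0_sp (T.mem_orb i))
    obtain ⟨n1, n2, h1, h2, rfl⟩ := hn.of_append
    cases h2 with
    | @cons _ _ m' n2 hm' h2 =>
    have h3 := h1.conj_H0 (Hi_le_H0 j ((hm.conj (n := n1⁻¹) (by rw [map_inv]; exact h1.over.inv)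
      (by rw [T.cj_inv, cj_wT]) (by simpa using e)).mul_mem hm'))
    have e2 : m * (n1 * (m' * n2)) = n1 * (n1⁻¹ * m * n1⁻¹⁻¹ * m') * n1⁻¹ * (n1 * n2) := by group
    rw [e2] at h ⊢
    exact Subgroup.mul_mem _ h3 (ih _ (by rw [← hk]; simp) (h1.append h2)
      ((mul_mem_cancel_left (H0_le_H h3)).1 h) rfl)

variable (T θ p) in
/-- the hypotheses for the case of kernel prime to `p` -/
structure Cop (K : Subgroup G) : Prop extends Stem K θ, T.Good K where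
  tf : ∀ c ∈ θ.ker, c ^ p = 1 → c = 1
  div : ∀ c ∈ θ.ker, ∃ d ∈ θ.ker, d ^ p = c
  ex : ∀ i, ∃ x ∈ K, x ∈ S.U (Rp T i) ∧ x ≠ 1
  gen : K ≤ (S.Up ⊓ K) ⊔ (S.Um ⊓ K)

namespace Cop

variable [Finite F] [Fact p.Prime] [CharP F p] {K : Subgroup G} (h : Cop T θ p K)
include h

theorem mem_X {A : Set (Rt D)} (hA : C.Closed A) (hn : C.Nil A) {e : E} :
    e ∈ pLift θ p (S.U A) ↔ θ e ∈ S.U A ∧ ∃ k : ℕ, e ^ p ^ k = 1 := by
  haveI : Finite (S.U A) := Nat.finite_of_card_ne_zero (by rw [S.card_U hA hn]; exact pow_ne_zero _ Nat.card_pos.ne')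
  exact mem_pLift_iff h.cen (S.isPGroup_U p hA hn)

omit [Finite F] [CharP F p] in
theorem eq_of_p {a b : E} (ha : ∃ k : ℕ, a ^ p ^ k = 1) (hb : ∃ k : ℕ, b ^ p ^ k = 1) (e : θ a = θ b) : a = b := by
  obtain ⟨k, ha⟩ := ha
  obtain ⟨l, hb⟩ := hb
  have h1 : a * b⁻¹ ∈ θ.ker := by simp [MonoidHom.mem_ker, e]
  have h2 : Commute (a * b⁻¹) b := (mem_center_iff.1 (h.cen h1) b).symm
  have h3 := h2.mul_pow (p ^ (k + l))
  rw [inv_mul_cancel_right, pow_add, pow_mul, ha, one_pow, mul_comm (p ^ k), pow_mul b, hb, one_pow, mul_one, ← pow_add] at h3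
  exact mul_inv_eq_one.1 (eq_one_of_pow_prime_pow h.tf h1 h3.symm)

theorem X_inj {A B : Set (Rt D)} (hA : C.Closed A) (hn : C.Nil A) (hB : C.Closed B) (hn' : C.Nil B) {a b : E}
    (ha : a ∈ pLift θ p (S.U A)) (hb : b ∈ pLift θ p (S.U B)) (e : θ a = θ b) : a = b :=
  h.eq_of_p ((h.mem_X hA hn).1 ha).2 ((h.mem_X hB hn').1 hb).2 e

theorem exists_X {A : Set (Rt D)} (hA : C.Closed A) (hn : C.Nil A) {g : G} (hg : g ∈ K) (hg' : g ∈ S.U A) :
    ∃ e ∈ pLift θ p (S.U A), θ e = g := by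
  obtain ⟨k, hk⟩ := S.isPGroup_U p hA hn ⟨g, hg'⟩
  have hk' : g ^ p ^ k = 1 := congrArg Subtype.val hk
  obtain ⟨e, rfl⟩ := h.surj g hg
  obtain ⟨d, hd, hd'⟩ := exists_pow_prime_pow_eq h.div
    (show (e ^ p ^ k)⁻¹ ∈ θ.ker by simp [MonoidHom.mem_ker, hk']) k
  have hd1 : θ d = 1 := hd
  refine ⟨e * d, mem_pLift_of (k := k) (by simpa [hd1] using hg') ?_, by simp [hd1]⟩
  rw [(show Commute e d from mem_center_iff.1 (h.cen hd) e).mul_pow, hd', mul_inv_cancel]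

theorem exM {i : Nd D} {v : E} (hv : v ∈ Xm T θ p i) (h1 : v ≠ 1) :
    ∃ x ∈ Xp T θ p i, ∃ x' ∈ Xp T θ p i, IsM T θ p i (x * v * x') := by
  have hv' := pLift_le_comap _ _ _ hv
  obtain ⟨w, hw, u, hu, m, hm, u', hu', e⟩ := S.mem_L_iff.1 (U_neg_le_L (S := S) _ hv')
  obtain ⟨h1, h2, -, h4⟩ := Stb.nf_fix (S.U_le_Up (fun _ h => h.1) hu) hm hu' (by rw [← e]; exact h.fix _ (h.mem v))
  obtain rfl : w = sw T i := Stb.eq_w0_orb hw h1 (by
    rintro rfl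
    refine ‹v ≠ 1› (h.X_inj (closed_Rm i) (nil_Rm i) (closed_Rm (T := T) i) (nil_Rm i) hv (one_mem _) ?_)
    rw [map_one]
    exact S.eq_one_of_mem_Um_B (S.U_le_Um (fun _ h => h.1) hv') (e ▸ mul_mem (mul_mem
      (S.Up_le_B (S.U_le_Up (fun _ h => h.1) hu)) (S.H_le_B hm.mem_H)) (S.Up_le_B (S.Uw_le_Up _ hu'))))
  obtain ⟨x, hx, rfl⟩ := h.exists_X (closed_Rp i) (nil_Rp i) (h.up u (S.U_le_Up (fun _ h => h.1) hu) h2) hu
  obtain ⟨x', hx', rfl⟩ := h.exists_X (closed_Rp i) (nil_Rp i) (h.up u' (S.Uw_le_Up _ hu') h4) ((Uw_sw i).le hu')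
  exact ⟨_, inv_mem hx, _, inv_mem hx', by simpa [e, mul_assoc] using hm, _, inv_mem hx, _, hv, _, inv_mem hx', rfl⟩

theorem M_unique {i : Nd D} {v x x' y y' : E} (hx : x ∈ Xp T θ p i) (hx' : x' ∈ Xp T θ p i) (hy : y ∈ Xp T θ p i)
    (hy' : y' ∈ Xp T θ p i) (h1 : S.Over (θ (x * v * x')) (sw T i)) (h2 : S.Over (θ (y * v * y')) (sw T i)) :
    x = y ∧ x' = y' := by
  have a := fun z (hz : z ∈ Xp T θ p i) => pLift_le_comap _ _ _ (inv_mem hz)
  obtain ⟨-, e1, -, e2⟩ := Sys.nfU_unique h1 h2 (S.U_le_Up (fun _ h => h.1) (a x hx)) (S.U_le_Up (fun _ h => h.1) (a y hy))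
    ((Uw_sw i).ge (a x' hx')) ((Uw_sw i).ge (a y' hy')) (by simp [mul_assoc])
  have b := fun {a b} => h.X_inj (a := a) (b := b) (closed_Rp (T := T) i) (nil_Rp i) (closed_Rp (T := T) i) (nil_Rp i)
  exact ⟨b hx hy (by simpa using e1), b hx' hy' (by simpa using e2)⟩

theorem exists_isM (i : Nd D) : ∃ m, IsM T θ p i m := by
  obtain ⟨x, x1, x2, x3⟩ := h.ex i
  obtain ⟨m, m1, m2⟩ := h.ex_over _ (C.w0_mem_W _) (cj_sw i)
  obtain ⟨v, hv, e⟩ := h.exists_X (closed_Rm i) (nil_Rm i) (mul_mem (mul_mem m1 x1) (inv_mem m1))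
    (m2.acts.conj_mem (fun _ => sw_Rp) x2)
  obtain ⟨_, -, _, -, h1⟩ := h.exM hv (by rintro rfl; exact x3 (by simpa using e.symm))
  exact ⟨_, h1⟩

theorem exists_nw {w : Perm (Rt D)} (hw : w ∈ C.W) (e : T.cj w = w) : ∃ l n, NW T θ p l n ∧ wT T l = w := by
  refine Stb.fix_induction (P := fun w => ∃ l n, NW T θ p l n ∧ wT T l = w) ⟨[], 1, NW.nil, rfl⟩ ?_ hw e
  rintro _ - - i - ⟨l, n, hn, rfl⟩
  obtain ⟨m, hm⟩ := h.exists_isM i
  exact ⟨_, _, hn.append (NW.cons hm NW.nil), by simp [wT]⟩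

theorem bruhat_step {i : Nd D} {m u n : E} {l : List (Nd D)} (hm : IsM T θ p i m) (hu : u ∈ pLift θ p S.Up)
    (hn : NW T θ p l n) : ∃ a ∈ pLift θ p S.Up, ∃ l' n', NW T θ p l' n' ∧ ∃ b ∈ pLift θ p S.Up, m * u * n = a * n' * b := by
  have hP := Cert.nil_of_pos (C := C) (T := {r | C.Pos r}) fun _ h => h
  have hR : Xp T θ p i ≤ pLift θ p S.Up := pLift_mono _ _ (S.U_le_Up fun _ h => h.1)
  obtain ⟨a, ha, b, hb, e⟩ := split_levi' (T.orb i) (pLift_le_comap _ _ _ hu)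
  obtain ⟨e1, e2⟩ := (T.stable_orb i).levi ha (U_pos_le_L _ hb) (e ▸ h.fix _ (h.mem u))
  obtain ⟨a, ha', rfl⟩ := h.exists_X (Cert.closed_radical _) (Cert.nil_of_pos fun _ h => h.1)
    (h.up a (S.UJ_le_Up _ ha) e1) ha
  obtain ⟨b, hb', rfl⟩ := h.exists_X (closed_Rp i) (nil_Rp i) (h.up b (S.U_le_Up (fun _ h => h.1) hb) e2) hb
  obtain rfl : u = a * b := h.X_inj Cert.closed_pos hP Cert.closed_pos hP hu
    (mul_mem (pLift_mono _ _ (S.UJ_le_Up _) ha') (hR hb')) (by rw [e, map_mul])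
  have h1 : m * a * m⁻¹ ∈ pLift θ p S.Up :=
    conj_X hm.1 (fun r hr => by exact Cert.pos_map_of_not_inJ (C.w0_mem _) hr.1 hr.2) ha'
  have h2 : S.Over (θ n⁻¹) (wT T l)⁻¹ := by rw [map_inv]; exact hn.over.inv
  have h3 : T.cj (wT T l)⁻¹ = (wT T l)⁻¹ := by rw [T.cj_inv, cj_wT]
  by_cases hp : C.Pos ((wT T l)⁻¹ (C.sp i))
  · exact ⟨_, h1, _, _, NW.cons hm hn, _, conj_X h2 (fun r hr => by exact (pos_of_asc h2.mem_W h3 hp hr.2).2 hr.1) hb',
      by group⟩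
  by_cases hb1 : b = 1
  · exact ⟨_, h1, _, _, NW.cons hm hn, 1, one_mem _, by rw [hb1]; group⟩
  obtain ⟨x, hx, x', hx', h4⟩ := h.exM (conj_X hm.1 (fun _ => sw_Rp) hb') (by simpa using hb1)
  exact ⟨_, mul_mem h1 (inv_mem (hR hx)), _, _, NW.cons h4 (NW.cons hm hn), _,
    conj_X h2 (fun r hr => by exact (neg_of_desc h2.mem_W h3 hp hr.2).2 hr.1)
      (conj_X hm.inv.1 (fun _ => sw_Rp) (inv_mem hx')), by group⟩

theorem bruhat (g : E) : ∃ a ∈ pLift θ p S.Up, ∃ l n, NW T θ p l n ∧ ∃ b ∈ pLift θ p S.Up, g = a * n * b := by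
  let P : E → Prop := fun g => ∃ a ∈ pLift θ p S.Up, ∃ l n, NW T θ p l n ∧ ∃ b ∈ pLift θ p S.Up, g = a * n * b
  let M : Subgroup E :=
    { carrier := {x | ∀ g, P g ↔ P (x * g)}
      one_mem' := by simp
      mul_mem' := fun ha hb g => by rw [mul_assoc, ← ha, ← hb]
      inv_mem' := fun {x} ha g => by rw [ha (x⁻¹ * g), mul_inv_cancel_left] }
  have a : ∀ x, (∀ g, P g → P (x * g)) → (∀ g, P g → P (x⁻¹ * g)) → x ∈ M := fun x h1 h2 g =>
    ⟨h1 g, fun h3 => by simpa using h2 _ h3⟩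
  have hU : ∀ u ∈ pLift θ p S.Up, ∀ g, P g → P (u * g) := by
    rintro u hu _ ⟨a, ha, l, n, hn, b, hb, rfl⟩
    exact ⟨u * a, mul_mem hu ha, l, n, hn, b, hb, by group⟩
  have hM : ∀ {i m}, IsM T θ p i m → ∀ g, P g → P (m * g) := by
    rintro i m hm _ ⟨a, ha, l, n, hn, b, hb, rfl⟩
    obtain ⟨a', ha', l', n', hn', b', hb', e⟩ := h.bruhat_step hm ha hn
    exact ⟨a', ha', l', n', hn', b' * b, mul_mem hb' hb, by rw [← mul_assoc, ← mul_assoc, e, mul_assoc]⟩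
  have h1 : pLift θ p S.Up ≤ M := fun u hu => a u (hU u hu) (hU _ (inv_mem hu))
  have h2 : ∀ {l n}, NW T θ p l n → n ∈ M := fun hn => by
    induction hn with
    | nil => exact one_mem _
    | cons hm _ ih => exact mul_mem (a _ (hM hm) (hM hm.inv)) ih
  have h3 : K ≤ M.map θ := h.gen.trans (sup_le (fun u hu => by
      obtain ⟨e, he, rfl⟩ := h.exists_X Cert.closed_pos (Cert.nil_of_pos fun _ h => h) hu.2 hu.1
      exact mem_map_of_mem _ (h1 he)) fun u hu => by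
      obtain ⟨e, he, rfl⟩ := h.exists_X Cert.closed_neg (Cert.nil_of_neg fun _ h => h) hu.2 hu.1
      obtain ⟨l, n, hn, e⟩ := h.exists_nw (C.w0_mem_W _) T.stable_univ.cj_w0
      have := h1 (conj_X (e ▸ hn.over) (fun r hr => by exact Cert.pos_w0_univ_iff.2 hr) he)
      exact mem_map_of_mem _ (by simpa [mul_assoc] using mul_mem (mul_mem (inv_mem (h2 hn)) this) (h2 hn)))
  have h4 : θ.ker ≤ M := h.stem.trans ((commutator_le_of_map_eq_top h.cen M fun e => h3 (h.mem e)).trans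
    (commutator_le_self M))
  obtain ⟨m, hm, e⟩ := h3 (h.mem g)
  have h5 : g ∈ M := by
    simpa using mul_mem hm (h4 (show m⁻¹ * g ∈ θ.ker by simp [MonoidHom.mem_ker, e]))
  simpa using (h5 1).1 ⟨1, one_mem _, [], 1, NW.nil, 1, one_mem _, by simp⟩

theorem ker_le : θ.ker ≤ H0 T θ p := fun z hz => by
  obtain ⟨a, ha, l, n, hn, b, hb, rfl⟩ := h.bruhat z
  have hP := Cert.nil_of_pos (C := C) (T := {r | C.Pos r}) fun _ h => h
  have h1 : θ n ∈ S.Up := by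
    rw [show θ n = (θ a)⁻¹ * θ (a * n * b) * (θ b)⁻¹ by simp [mul_assoc], MonoidHom.mem_ker.1 hz, mul_one]
    exact mul_mem (inv_mem (pLift_le_comap _ _ _ ha)) (inv_mem (pLift_le_comap _ _ _ hb))
  have h2 : θ n ∈ S.H := Sys.Over.mem_H (hn.over.eq_one_of_mem_B (S.Up_le_B h1) ▸ hn.over)
  have h3 := S.eq_one_of_mem_Up_H h1 h2
  have h4 : a * b = 1 := h.X_inj Cert.closed_pos hP Cert.closed_pos hP (mul_mem ha hb) (one_mem _)
    (by simpa [MonoidHom.mem_ker, h3] using hz)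
  rw [mem_center_iff.1 (h.cen h3) a, mul_assoc, h4, mul_one]
  exact hn.del h2

theorem exists_sl2 {k : Type*} [Field k] [Finite k] {i : Nd D} (L : SL2Sys k G) (x1 : ∀ t, L.x t ∈ K)
    (x2 : ∀ t, L.x t ∈ S.U (Rp T i)) (y1 : ∀ t, L.y t ∈ K) (y2 : ∀ t, L.y t ∈ S.U (Rm T i))
    (y3 : ∀ v ∈ K, v ∈ S.U (Rm T i) → ∃ t, v = L.y t) (hw : ∀ t, t ≠ 0 → S.Over (L.w t) (sw T i)) :
    ∃ L' : SL2Sys k E, L'.map θ = L ∧ Hi T θ p i ≤ L'.hH.range := by
  choose x hx ex using fun t => h.exists_X (closed_Rp i) (nil_Rp i) (x1 t) (x2 t)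
  choose y hy ey using fun t => h.exists_X (closed_Rm i) (nil_Rm i) (y1 t) (y2 t)
  have ip := fun {a b} => h.X_inj (a := a) (b := b) (closed_Rp (T := T) i) (nil_Rp i) (closed_Rp (T := T) i) (nil_Rp i)
  have im := fun {a b} => h.X_inj (a := a) (b := b) (closed_Rm (T := T) i) (nil_Rm i) (closed_Rm (T := T) i) (nil_Rm i)
  have ow : ∀ t, t ≠ 0 → S.Over (θ (x t * y (-t⁻¹) * x t)) (sw T i) := fun t ht => by
    rw [map_mul, map_mul, ex, ey]; exact hw t ht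
  let L' : SL2Sys k E :=
    { x := x
      y := y
      x_add := fun t u => ip (hx _) (mul_mem (hx _) (hx _)) (by rw [map_mul, ex, ex, ex, L.x_add])
      y_add := fun t u => im (hy _) (mul_mem (hy _) (hy _)) (by rw [map_mul, ey, ey, ey, L.y_add])
      conj := fun t u ht => im (conj_X (ow t ht) (fun _ => sw_Rp) (hx u)) (hy _) (by
        simp only [map_mul, map_inv, ex, ey]; exact L.conj t u ht) }
  have a : ∀ m, IsM T θ p i m → ∃ t, t ≠ 0 ∧ m = L'.w t := by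
    rintro _ ⟨h1, a, ha, v, hv, b, hb, rfl⟩
    obtain ⟨s, e⟩ := y3 _ (h.mem v) (pLift_le_comap _ _ _ hv)
    obtain rfl := im hv (hy s) (e.trans (ey s).symm)
    have hs : s ≠ 0 := by
      rintro rfl
      rw [show y 0 = 1 from L'.y_zero, mul_one] at h1
      exact Stb.w0_orb_ne_one i (h1.eq_one_of_mem_B (S.Up_le_B (S.U_le_Up (fun _ h => h.1)
        (pLift_le_comap θ p _ (mul_mem ha hb)))))
    have ht := neg_ne_zero.2 (inv_ne_zero hs)
    have h2 := ow _ ht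
    rw [inv_neg, inv_inv, neg_neg] at h2
    obtain ⟨rfl, rfl⟩ := h.M_unique ha hb (hx _) (hx _) h1 h2
    exact ⟨_, ht, by rw [SL2Sys.w, inv_neg, inv_inv, neg_neg]⟩
  refine ⟨L', by cases L; simp only [SL2Sys.map, SL2Sys.mk.injEq]; exact ⟨funext ex, funext ey⟩, (closure_le _).2 ?_⟩
  rintro _ ⟨m, m', h1, h2, rfl⟩
  obtain ⟨s, hs, rfl⟩ := a m h1
  obtain ⟨t, ht, rfl⟩ := a m' h2
  rw [L'.w_mul_w hs ht]
  exact ⟨Units.mk0 _ (div_ne_zero (neg_ne_zero.2 hs) ht), rfl⟩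

end Cop

end Cfsg.Agent.TwM
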