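import Mathlib

set_option autoImplicit false

/-! Sums of few powers of `p` are not divisible by `p ^ n - 1`. -/

namespace Cfsg.Agent.TwM

theorem not_dvd_sum_pow {p n : ℕ} (hp : 2 ≤ p) (s : Multiset ℕ) (h0 : s ≠ 0) (h : s.card < n * (p - 1)) :
    ¬ p ^ n - 1 ∣ (s.map (p ^ ·)).sum := by
  induction hk : s.card using Nat.strong_induction_on generalizing s with
  | _ k ih =>
  have hn : 0 < n := Nat.pos_of_ne_zero (by rintro rfl; simp at h)
  have h1 : ∀ t : Multiset ℕ, ((t.map (· % n)).map (p ^ ·)).sum ≡ (t.map (p ^ ·)).sum [MOD p ^ n - 1] := fun t => by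
    induction t using Multiset.induction_on with
    | empty => rfl
    | cons a t iht =>
      simp only [Multiset.map_cons, Multiset.sum_cons]
      refine Nat.ModEq.add ?_ iht
      conv_rhs => rw [← Nat.mod_add_div a n, pow_add, pow_mul]
      simpa using (((Nat.modEq_iff_dvd' (Nat.one_le_pow n p (by omega))).2 dvd_rfl).pow (a / n)).mul_left (p ^ (a % n))
  rw [← (h1 s).dvd_iff dvd_rfl]
  have h2 : ∀ a ∈ s.map (· % n), a < n := fun a ha => by
    obtain ⟨b, -, rfl⟩ := Multiset.mem_map.1 ha; exact Nat.mod_lt _ hn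
  have h3 : (s.map (· % n)).card = s.card := Multiset.card_map _ _
  generalize s.map (· % n) = t at h2 h3
  have h4 : 0 < t.card := h3 ▸ Multiset.card_pos.2 h0
  by_cases hc : ∃ i, p ≤ t.count i
  · obtain ⟨i, hi⟩ := hc
    obtain ⟨u, rfl⟩ := exists_add_of_le (Multiset.le_count_iff_replicate_le.1 hi)
    simp only [Multiset.card_add, Multiset.card_replicate] at h3
    have := ih _ (by simp; omega) ((i + 1) ::ₘ u) (by simp) (by simp; omega) rfl
    simpa [pow_succ'] using this
  push Not at hc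
  have h5 : t.toFinset ⊆ Finset.range n := fun a ha => Finset.mem_range.2 (h2 a (Multiset.mem_toFinset.1 ha))
  have h6 : (t.map (p ^ ·)).sum = ∑ i ∈ Finset.range n, t.count i * p ^ i := by
    rw [Finset.sum_multiset_map_count]
    exact Finset.sum_subset h5 fun a _ ha => by simp [Multiset.count_eq_zero.2 (mt Multiset.mem_toFinset.2 ha)]
  refine Nat.not_dvd_of_pos_of_lt ?_ ?_
  · obtain ⟨a, ha⟩ := Multiset.card_pos_iff_exists_mem.1 h4
    exact (pow_pos (by omega) a).trans_le (Multiset.single_le_sum (by simp) _ (Multiset.mem_map_of_mem _ ha))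
  · obtain ⟨q, rfl⟩ := Nat.exists_eq_add_of_le' (show 1 ≤ p by omega)
    rw [h6, ← geom_sum_mul_add q n, Nat.add_sub_cancel, Finset.sum_mul, add_comm q]
    refine Finset.sum_lt_sum (fun i _ => by rw [mul_comm]; gcongr; exact Nat.lt_succ_iff.1 (hc i)) ?_
    by_contra h7
    push Not at h7
    have := Finset.card_nsmul_le_sum (Finset.range n) t.count q fun i hi => by
      have := h7 i hi
      rw [mul_comm] at this
      exact Nat.le_of_mul_le_mul_right this (by positivity)
    rw [Multiset.sum_count_eq_card fun a ha => h5 (Multiset.mem_toFinset.2 ha)] at this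
    simp at this h; omega

theorem exists_zpow_ne {F : Type*} [Field F] [Finite F] {e : ℤ} (h : ¬ ((Nat.card F : ℤ) - 1) ∣ e) :
    ∃ t : Fˣ, t ^ e ≠ 1 := by
  obtain ⟨g, hg⟩ := IsCyclic.exists_ofOrder_eq_natCard (α := Fˣ)
  refine ⟨g, fun h1 => h ?_⟩
  have := orderOf_dvd_iff_zpow_eq_one.2 h1
  rwa [hg, Nat.card_units, Nat.cast_sub (Nat.card_pos (α := F)), Nat.cast_one] at this

theorem exists_pow_sum_ne {F : Type*} [Field F] [Finite F] {p n : ℕ} (hp : 2 ≤ p) (hF : Nat.card F = p ^ n)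
    (l : List ℕ) (h0 : l ≠ []) (h : l.length < n * (p - 1)) : ∃ t : Fˣ, t ^ (l.map (p ^ ·)).sum ≠ 1 := by
  obtain ⟨t, ht⟩ := exists_zpow_ne (F := F) (e := ((l.map (p ^ ·)).sum : ℕ)) fun h1 =>
    not_dvd_sum_pow hp (l : Multiset ℕ) (by simpa) h (by
      rw [← Nat.cast_one, ← Nat.cast_sub (Nat.card_pos (α := F)), Int.natCast_dvd_natCast, hF] at h1; simpa using h1)
  exact ⟨t, by rwa [zpow_natCast] at ht⟩

end Cfsg.Agent.TwM
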