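import Cfsg.Agent.TwM.Bru
import Cfsg.Agent.TwM.Num

set_option autoImplicit false

/-! Tools for verifying the hypotheses of the splitting theorem. -/

namespace Cfsg.Agent.TwM

open Subgroup Cfsg.Agent.Cover Cfsg.Lie Cfsg.Lie.ChevalleyDatum Cfsg.Agent.Chev Cfsg.Agent.Tw Equiv
open scoped commutatorElement

variable {E : Type*} [Group E] {D : ChevalleyDatum} {C : Cert D} {F : Type*} [Field F] {G : Type*} [Group G]
  {S : Sys C F G} {T : Stb S} {θ : E →* G} {K : Subgroup G} {f : (Nd D → ℤ) →ₗ[ℤ] ℤ}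

/-- weighted height -/
def wf (D : ChevalleyDatum) (w : List ℤ) : (Nd D → ℤ) →ₗ[ℤ] ℤ where
  toFun x := ∑ i : Nd D, w.getD i 0 * x i
  map_add' x y := by simp [mul_add, Finset.sum_add_distrib]
  map_smul' c x := by simp [Finset.mul_sum, mul_left_comm]

theorem cd_fix {r : Rt D} (hr : 0 < f (C.rc r)) (h : ∀ s, f (C.rc r) ≤ f (C.rc s) → f (C.rc (T.ρ r)) < 2 * f (C.rc (T.ρ s)))
    {u : G} (hu : u ∈ S.U {s | f (C.rc r) ≤ f (C.rc s)}) (e : T.σ u = u) : S.cd (T.ρ r) u = T.e r * T.f r (S.cd r u) := by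
  have := h r le_rfl
  conv_lhs => rw [← e]
  exact T.cd_σ (f := f) (f' := f) (k' := f (C.rc (T.ρ r)) / 2 + 1) hr.le (by omega) (fun _ h => h)
    (fun s hs => by have := h s hs; omega) (by omega) (by omega) hu

theorem covers_dead (hf : ∀ e, T.σ (θ e) = θ e) {r : Rt D} (hr : 0 < f (C.rc r))
    (h : ∀ s, f (C.rc r) ≤ f (C.rc s) → f (C.rc (T.ρ r)) < 2 * f (C.rc (T.ρ s))) (h1 : f (C.rc (T.ρ r)) < f (C.rc r)) :
    Covers S θ f r ⊥ := covers_bot fun u hu => by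
  have := cd_fix hr h hu (hf u)
  rw [S.cd_eq_zero hr.le (fun _ h => h) h1 hu] at this
  simpa using this.symm

theorem fix_symm (hf : ∀ e, T.σ (θ e) = θ e) (e : E) : T.symm.σ (θ e) = θ e := T.σ.symm_apply_eq.2 (hf e).symm

theorem covers_fix (h : Stem K θ) (hK : T.Good K) {r : Rt D} (hp : C.Pos r) (hr : 0 < f (C.rc r))
    (h0 : ∀ s, f (C.rc r) ≤ f (C.rc s) → f (C.rc (T.ρ r)) < 2 * f (C.rc (T.ρ s))) (h1 : T.ρ r = r) :
    Covers S θ f r ((S.U {r}).comap θ) := by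
  refine ⟨comap_mono (S.U_mono fun s hs => by rw [hs]; exact le_refl (f _)), fun u hu => ?_⟩
  have := cd_fix hr h0 hu (hK.fix _ (h.mem u))
  obtain ⟨a, ha⟩ := h.surj _ (hK.up _ (S.x_mem_Up hp (S.cd r (θ u))) (by rw [T.σ_x, ← this, h1]))
  exact ⟨a, by rw [mem_comap, ha]; exact S.x_mem_U (Set.mem_singleton r) _, by rw [ha, S.cd_x_self]⟩

theorem commute_comm (hc : θ.ker ≤ center E) {u a b : E} (h1 : Commute (θ u) (θ a)) (h2 : Commute (θ u) (θ b)) :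
    Commute u ⁅a, b⁆ := by
  rw [Commute, SemiconjBy, ← mul_inv_eq_iff_eq_mul, conjugate_commutatorElement]
  exact comm_eq_of_map_eq hc (by simp [h1.eq]) (by simp [h2.eq])

theorem commute_of_map_eq (hc : θ.ker ≤ center E) {u v v' : E} (h : Commute u v) (e : θ v = θ v') : Commute u v' :=
  commutatorElement_eq_one_iff_commute.1 ((comm_eq_of_map_eq hc rfl e.symm).trans h.commutator_eq)

theorem mem_U_single {r : Rt D} {g : G} (h : g ∈ S.U {r}) : ∃ t, g = S.x r t :=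
  S.U_induction (P := fun g => ∃ t, g = S.x r t) ⟨0, (S.x_zero r).symm⟩
    (by rintro _ rfl t _ - ⟨u, rfl⟩; exact ⟨_, (S.x_add _ _ _).symm⟩) h

theorem fix_x {r : Rt D} {t : F} (h1 : T.ρ r = r) (h : T.σ (S.x r t) = S.x r t) : T.e r * T.f r t = t := by
  rw [T.σ_x, h1] at h
  simpa only [S.cd_x_self] using congrArg (S.cd r) h

theorem xi_commute {r s : ℕ} (h : r < D.nroots ∧ s < D.nroots ∧ s ≠ r ∧ s + r + 1 ≠ D.nroots ∧ D.commTerms r s = [])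
    (t u : F) : Commute (xi S r t) (xi S s u) := by
  simpa [commute_iff_eq] using (xi_comm S h t u 1).symm

/-- `r` is the sum of `a` and `b` -/
def Long (r a b : Rt D) : Prop :=
  (b : ℕ) ≠ a ∧ (b : ℕ) + a + 1 ≠ D.nroots ∧ (D.commTerms a b = [((r : ℕ), 1, 1, 1)] ∨ D.commTerms a b = [((r : ℕ), -1, 1, 1)]) ∧
    (a : ℕ) ≠ r ∧ (a : ℕ) + r + 1 ≠ D.nroots ∧ D.commTerms r a = [] ∧ (b : ℕ) ≠ r ∧ (b : ℕ) + r + 1 ≠ D.nroots ∧ D.commTerms r b = []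

instance instDecidableLong (r a b : Rt D) : Decidable (Long r a b) := by unfold Long; infer_instance

theorem Long.comm {r a b : Rt D} (h : Long r a b) : ∃ c : F, c * c = 1 ∧ ∀ t u,
    ⁅S.x a t, S.x b u⁆ = S.x r (c * t * u) := by
  obtain ⟨h1, h2, h3, -⟩ := h
  have key : ∀ c : ℤ, D.commTerms a b = [((r : ℕ), c, 1, 1)] → ∀ t u, ⁅S.x a t, S.x b u⁆ = S.x r (c * t * u) := fun c e t u => by
    have := xi_swap S ⟨a.2, b.2, h1, h2, e⟩ (-t) (-u)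
    simp only [List.map, wd_cons, wd_nil, xi_val, mul_one, pow_one, neg_neg, S.x_neg, mul_neg] at this
    rw [← inv_inj, commutatorElement_inv, commutatorElement_def, mul_assoc, this]; group
  rcases h3 with e | e
  exacts [⟨_, by simp, key _ e⟩, ⟨_, by simp, key _ e⟩]

theorem Long.abel (h : Stem K θ) (hK : ∀ g, g ∈ K ↔ T.σ g = g) {r a b : Rt D} (hl : Long r a b)
    (h1 : T.ρ r = r ∧ T.ρ a = a ∧ T.ρ b = b) (h2 : T.e r = 1 ∧ T.e a = 1 ∧ T.e b = 1) (h3 : T.f b = T.f r) :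
    ⁅(S.U {r}).comap θ, (S.U {r}).comap θ⁆ = ⊥ := by
  refine eq_bot_iff.2 (commutator_le.2 fun u hu v hv => Commute.commutator_eq ?_)
  obtain ⟨t, ht⟩ := mem_U_single hu
  obtain ⟨s, hs⟩ := mem_U_single hv
  obtain ⟨c, hc, e⟩ := hl.comm (S := S)
  have h4 := fix_x h1.1 (hs ▸ (hK _).1 (h.mem v))
  have h5 : T.f r c = c := by rcases mul_self_eq_one_iff.1 hc with rfl | rfl <;> simp
  obtain ⟨x, hx⟩ := h.surj (S.x a c) ((hK _).2 (by
    rw [T.σ_x, h1.2.1, h2.2.1]; rcases mul_self_eq_one_iff.1 hc with rfl | rfl <;> simp))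
  obtain ⟨y, hy⟩ := h.surj (S.x b s) ((hK _).2 (by rw [T.σ_x, h1.2.2, h2.2.2, h3, ← h2.1, h4]))
  refine commute_of_map_eq h.cen (commute_comm h.cen (a := x) (b := y) ?_ ?_)
    (by rw [map_commutatorElement, hx, hy, e, hc, one_mul, hs])
  · simpa only [ht, hx, xi_val] using xi_commute (S := S) ⟨r.2, a.2, hl.2.2.2.1, hl.2.2.2.2.1, hl.2.2.2.2.2.1⟩ t c
  · simpa only [ht, hy, xi_val] using xi_commute (S := S) ⟨r.2, b.2, hl.2.2.2.2.2.2⟩ t s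

variable (S θ) in
/-- a one-parameter torus with exponents `e` -/
def Tor (e : Rt D → ℤ) : Prop := ∀ c : Fˣ, ∃ t, θ t ∈ S.H ∧ ∀ s, S.chi (θ t) s = c ^ e s

theorem Tor.root [Finite F] {e : Rt D → ℤ} (h : Tor S θ e) {r : Rt D} (h1 : ¬ ((Nat.card F : ℤ) - 1) ∣ e r) :
    RootOK S θ f ⊥ r := by
  obtain ⟨c, hc⟩ := exists_zpow_ne h1
  obtain ⟨t, h2, h3⟩ := h c
  exact Or.inl ⟨rfl, t, h2, by rwa [h3]⟩

theorem Tor.sep {e : Rt D → ℤ} (h : Tor S θ e) {p : ℕ} {r s : Rt D} (h1 : ∀ k, ∃ c : Fˣ, c ^ (p ^ k * e r + e s) ≠ 1) :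
    Sep S θ p r s := fun k => by
  obtain ⟨c, hc⟩ := h1 k
  obtain ⟨t, h2, h3⟩ := h c
  exact ⟨t, h2, by rwa [h3, h3, ← zpow_natCast, ← zpow_mul, ← zpow_add, mul_comm, Nat.cast_pow]⟩

theorem Tor.sep_left [Finite F] {e : Rt D → ℤ} (h : Tor S θ e) {p : ℕ} {r s : Rt D} (h0 : e r = 0)
    (h1 : ¬ ((Nat.card F : ℤ) - 1) ∣ e s) : Sep S θ p r s :=
  h.sep fun k => by simpa [h0] using exists_zpow_ne h1

theorem Tor.sep_right [Finite F] {e : Rt D → ℤ} (h : Tor S θ e) {p : ℕ} [Fact p.Prime] [CharP F p] {r s : Rt D}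
    (h0 : e s = 0) (h1 : ¬ ((Nat.card F : ℤ) - 1) ∣ e r) : Sep S θ p r s :=
  h.sep fun k => by
    obtain ⟨c, hc⟩ := exists_zpow_ne h1
    refine ⟨c, fun e => hc (Units.ext ((iterateFrobenius F p k).injective ?_))⟩
    rw [h0, add_zero, mul_comm, zpow_mul, ← Nat.cast_pow, zpow_natCast] at e
    rw [iterateFrobenius_def, ← Units.val_pow_eq_pow_val, e, Units.val_one, map_one]

theorem chi_σ' {a : G} (ha : a ∈ S.H) {r s : Rt D} (e : T.ρ r = s) {n : ℕ} (h : ∀ t, T.f r t = t ^ n) :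
    S.chi (T.σ a) s = S.chi a r ^ n := by
  rw [← e, T.chi_σ ha]; ext; simp [Stb.fu_val, h]

theorem tor2 (hφ : Function.Injective S.φ) (h : Stem K θ) (hK : ∀ a ∈ S.H, T.σ a = a → a ∈ K) (h1 : ∀ r, T.ρ (T.ρ r) = r)
    (h2 : ∀ r t, T.f (T.ρ r) (T.f r t) = t) {Q : Rt D → ℕ} (h3 : ∀ r t, T.f r t = t ^ Q r) (γ : Rt D) :
    Tor S θ fun s => C.A γ s + Q (T.ρ s) * C.A γ (T.ρ s) := fun c => by
  have ha := S.h_mem γ c
  have hb := T.σ_H ha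
  have e : T.σ (T.σ (S.h γ c)) = S.h γ c := S.eq_of_chi hφ (T.σ_H hb) ha fun i => by
    rw [← h1 (C.sp i), T.chi_σ hb, T.chi_σ ha, h1]; ext; simp only [Stb.fu_val, h2]
  obtain ⟨t, ht⟩ := h.surj _ (hK _ (mul_mem ha hb) (by rw [map_mul, e, S.H_comm hφ hb ha]))
  refine ⟨t, ht ▸ mul_mem ha hb, fun s => ?_⟩
  rw [ht, Sys.chi_mul ha hb, chi_σ' ha (h1 s) (h3 _), S.chi_h, S.chi_h, zpow_add, mul_comm (Q _ : ℤ), zpow_mul, zpow_natCast]

theorem tor3 (hφ : Function.Injective S.φ) (h : Stem K θ) (hK : ∀ a ∈ S.H, T.σ a = a → a ∈ K)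
    (h1 : ∀ r, T.ρ (T.ρ (T.ρ r)) = r) {q : ℕ} (h3 : ∀ r t, T.f r t = t ^ q) (h2 : ∀ t : F, ((t ^ q) ^ q) ^ q = t) (γ : Rt D) :
    Tor S θ fun s => C.A γ s + q * (C.A γ (T.ρ (T.ρ s)) + q * C.A γ (T.ρ s)) := fun c => by
  have ha := S.h_mem γ c
  have hb := T.σ_H ha
  have hc := T.σ_H hb
  have e : T.σ (T.σ (T.σ (S.h γ c))) = S.h γ c := S.eq_of_chi hφ (T.σ_H hc) ha fun i => by
    rw [chi_σ' hc (h1 _) (h3 _), chi_σ' hb rfl (h3 _), chi_σ' ha rfl (h3 _)]; ext; simp only [Units.val_pow_eq_pow_val, h2]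
  obtain ⟨t, ht⟩ := h.surj _ (hK _ (mul_mem ha (T.σ_H (mul_mem ha hb))) (by
    simp only [map_mul, e]; rw [← mul_assoc, S.H_comm hφ (mul_mem hb hc) ha]))
  refine ⟨t, ht ▸ mul_mem ha (T.σ_H (mul_mem ha hb)), fun s => ?_⟩
  rw [ht, Sys.chi_mul ha (T.σ_H (mul_mem ha hb)), chi_σ' (mul_mem ha hb) (h1 s) (h3 _), Sys.chi_mul ha hb,
    chi_σ' ha rfl (h3 _), S.chi_h, S.chi_h, S.chi_h]
  simp only [zpow_add, mul_comm (q : ℤ), zpow_mul, zpow_natCast]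

theorem ex_of_card {d n : ℕ} (hn : 1 < n) (h : ∀ w ∈ C.W, T.cj w = w → Nat.card ↥(S.Uw w ⊓ K) ^ d = n ^ C.ln w) (i : Nd D) :
    ∃ x ∈ K, x ∈ S.U (Rp T i) ∧ x ≠ 1 := by
  by_contra h1
  push Not at h1
  have := h _ (C.w0_mem_W _) (cj_sw i)
  rw [show S.Uw (sw T i) ⊓ K = ⊥ from eq_bot_iff.2 fun x hx => h1 x hx.2 ((Uw_sw i).le hx.1), card_bot, one_pow] at this
  exact Stb.w0_orb_ne_one i (Cert.eq_one_of_ln (C.w0_mem_W _) ((Nat.pow_eq_one.1 this.symm).resolve_left hn.ne'))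

variable (T f) in
/-- first members of the orbits -/
def Live (r : Rt D) : Prop := 0 < f (C.rc r) ∧ f (C.rc r) ≤ f (C.rc (T.ρ r)) ∧ f (C.rc r) ≤ f (C.rc (T.ρ⁻¹ r))

variable (T f) in
/-- admissible functionals -/
def Adm : Prop := (∀ r s, f (C.rc r) = f (C.rc s) → r = s) ∧ (∀ i, 0 < f (C.rc (C.sp i))) ∧
  ∀ r, 0 < f (C.rc r) → ∀ s, f (C.rc r) ≤ f (C.rc s) → f (C.rc (T.ρ r)) < 2 * f (C.rc (T.ρ s)) ∧
    f (C.rc (T.ρ⁻¹ r)) < 2 * f (C.rc (T.ρ⁻¹ s))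

theorem Adm.pos (h : Adm T f) {r : Rt D} (hr : 0 < f (C.rc r)) : C.Pos r := (Cert.pos_iff_of_all_pos h.2.1).2 hr.le

theorem Adm.covers_fix (h : Adm T f) (h' : Stem K θ) (hK : T.Good K) {r : Rt D} (hr : 0 < f (C.rc r)) (h1 : T.ρ r = r) :
    Covers S θ f r ((S.U {r}).comap θ) := TwM.covers_fix h' hK (h.pos hr) hr (fun s hs => (h.2.2 r hr s hs).1) h1

theorem Stem.ker_eq_bot_live [Finite F] [Finite E] (p : ℕ) [Fact p.Prime] [CharP F p] (hφ : Function.Injective S.φ)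
    (hK : T.Good K) (hX : ∀ i, ∃ x ∈ K, x ∈ S.U (Rp T i) ∧ x ≠ 1) (h : Stem K θ) (hp : IsPGroup p θ.ker)
    (hf : Adm T f) (Q : Rt D → Subgroup E) (h0 : ∀ r, ¬ Live T f r → Q r = ⊥)
    (h1 : ∀ r, Live T f r → RootOK S θ f (Q r) r) (h2 : ∀ r s, Live T f r → Live T f s → PairOK S θ f p Q r s) :
    θ.ker = ⊥ := by
  have a : ∀ r, C.Pos r → ¬ Live T f r → Covers S θ f r ⊥ := fun r hr h3 => by
    have h4 := Cert.pos_of_all_pos hf.2.1 hr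
    have h5 := fun e => hK.fix _ (h.mem e)
    simp only [Live, h4, true_and, not_and_or, not_le] at h3
    exact h3.elim (covers_dead h5 h4 fun s hs => (hf.2.2 r h4 s hs).1)
      (covers_dead (fix_symm h5) h4 fun s hs => (hf.2.2 r h4 s hs).2)
  refine h.ker_eq_bot_p p hφ hK hX hp hf.1 hf.2.1 Q (fun r hr => ?_) fun r s hr hs => ?_
  · by_cases h3 : Live T f r
    exacts [h1 r h3, h0 r h3 ▸ rootOK_bot (a r hr h3)]
  · by_cases h3 : Live T f r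
    · by_cases h4 : Live T f s
      exacts [h2 r s h3 h4, pairOK_right (a s hs h4) r]
    · exact pairOK_left (a r hr h3) s

theorem pairOK_self {p : ℕ} {Q : Rt D → Subgroup E} {r : Rt D} {A : Subgroup E} (h : Covers S θ f r A) (h1 : ⁅A, A⁆ = ⊥) :
    PairOK S θ f p Q r r := Or.inr ⟨_, _, h, h, h1 ▸ bot_le⟩

theorem not_dvd_of_digits {q a b : ℤ} {m : ℤ} (hq : |a| < q) (h0 : a ≠ 0 ∨ b ≠ 0) (h : |a| + q * |b| < m) :
    ¬ m ∣ a + q * b := fun h1 => by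
  have h2 := Int.eq_zero_of_abs_lt_dvd h1 ((abs_add_le _ _).trans_lt (by
    rwa [abs_mul, abs_of_pos ((abs_nonneg a).trans_lt hq)]))
  obtain rfl := Int.eq_zero_of_abs_lt_dvd (show q ∣ a from ⟨-b, by linear_combination h2⟩) hq
  simp only [ne_eq, not_true, false_or, zero_add, mul_eq_zero] at h0 h2
  exact h2.elim (fun e => by simp [e] at hq) h0

end Cfsg.Agent.TwM
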